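import Groth.Agent.GrLib8.PointPow.Push
import Groth.Agent.SurfRows.BlowCanon
import Groth.Agent.H28.BlowPush
import Groth.Agent.H28.BlowExact
import Groth.Agent.H26.InterDiv
import Groth.Agent.S0927
import Groth.Agent.S14520
import Groth.Agent.Lib.LerayOneDegree
import Groth.Agent.Lib.RegularResolution
import Groth.Agent.Lib.AmpleEmbedPow
import Groth.Agent.GrpSchLib.SmoothRegular
import Groth.Agent.SmoothReg.Scheme
import Groth.Agent.HilbPoly.Poly

/-!
# Cohomology of pullbacks twisted by powers of the exceptional curve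
-/

set_option autoImplicit false
set_option linter.style.haveILetI false
set_option linter.unusedSectionVars false
set_option backward.isDefEq.respectTransparency false
set_option backward.isDefEq.respectTransparency.types false
set_option maxHeartbeats 1000000

universe u

open CategoryTheory CategoryTheory.Limits AlgebraicGeometry TopologicalSpace Opposite
open Groth.Agent Groth.Agent.H23.PicMul

attribute [local instance] H23.PicMul.clMonoid

noncomputable section

namespace Groth.Agent.GrLib8.PointPow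

variable (k : Type u) [Field k] [IsAlgClosed k] {X : Scheme.{u}} [X.Over (Spec (CommRingCat.of k))]
  [IsProper (X ↘ (Spec (CommRingCat.of k)))] [Smooth (X ↘ (Spec (CommRingCat.of k)))] [IsIntegral X]

/-- `H^i(Y, f^*N ⊗ O(-rE)) = H^i(X, N ⊗ m^r)`. -/
theorem finrank_HH (hdim : topologicalKrullDim X = 2) {x : X} (hx : IsClosed ({x} : Set X))
    {Y : Scheme.{u}} [Y.Over (Spec (CommRingCat.of k))] (f : Y ⟶ X)
    (hf : f ≫ (X ↘ Spec (CommRingCat.of k)) = Y ↘ Spec (CommRingCat.of k))
    (hbl : BlowUp.IsBlowUp f (W4c2seshadripos.pointIdeal x hx))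
    {N : X.Modules} (hN : FlatMod.IsFinLocFree N) (r i : ℕ) :
    Module.finrank k (Coh.HH X (CohB1.tensorMod N (ClSub.idealMod (W4c2seshadripos.pointIdeal x hx ^ r))) i) =
      Module.finrank k (Coh.HH Y (CohB1.tensorMod ((Scheme.Modules.pullback f).obj N)
        (ClSub.idealMod (BlowUp.exceptional f (W4c2seshadripos.pointIdeal x hx) ^ r))) i) := by
  haveI := CurveCohLib.isNoetherian_of_proper (k := k) (X := X)
  haveI : X.IsSeparated := ⟨by
    rw [← Limits.terminal.comp_from (X ↘ Spec (CommRingCat.of k))]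
    infer_instance⟩
  have hreg : ∀ z : X, IsRegularLocalRing (X.presheaf.stalk z) := fun z =>
    GrpSchLib.isRegularLocalRing_stalk_of_smooth (X ↘ Spec (CommRingCat.of k)) z
  have hd : ringKrullDim (X.presheaf.stalk x) = 2 :=
    (SmoothReg.ringKrullDim_stalk_closedPoint (X ↘ Spec (CommRingCat.of k)) hx).trans hdim
  have hYe : KRR.HasEnoughLocFree X := RegularResolution.hasEnoughLocFree_of_regular hreg
  obtain ⟨p, hp, hpcl, hker, hpt, hpreg, hrank⟩ := SurfRows.exists_point_section k hdim x hx
  haveI := hpcl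
  haveI : ConnectedSpace ↥(Spec (CommRingCat.of k)) := inferInstance
  set K := BlowUp.exceptional f (W4c2seshadripos.pointIdeal x hx) ^ r
  set P := W4c2seshadripos.pointIdeal x hx
  have hbl' : BlowUp.IsBlowUp f p.ker := hker ▸ hbl
  obtain ⟨hY, hprop, -⟩ := H28.BlowReg.geom p f hYe hbl'
  haveI := hY; haveI := hprop
  haveI : HasInjectiveResolutions Y.Modules := KFlatLib.hasInjectiveResolutions_modules
  haveI := SpObjSS.enoughInjectives_of_hasInjectiveResolutions (C := Y.Modules)
  haveI := QCoh.preservesFiniteLimits_push f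
  have happ := H28.BlowPush.isIso_app hYe hreg p hpreg (by norm_num : 1 ≤ 2) hrank f hbl'
  obtain ⟨-, hcl⟩ := H26.IdealCl.eff_and_cl_prod ({()} : Finset Unit)
    (fun _ => BlowUp.exceptional f P) (fun _ => hbl.1) (fun _ => r)
  rw [Finset.prod_singleton, Finset.prod_singleton, ← cl_tensorPow] at hcl
  obtain ⟨eK⟩ := cl_eq_iff.1 hcl.symm
  -- the higher direct images vanish
  have hR : ∀ n, n ≠ 0 → IsZero ((Coh.Rpush f n).obj (ClSub.idealMod K)) := fun n hn => by
    obtain ⟨q, rfl⟩ := Nat.exists_eq_succ_of_ne_zero hn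
    have h := H28.BlowVan.van hYe p hpreg (by norm_num : 1 ≤ 2) hrank f hbl' r (q + 1) (by omega)
    have hK' : BlowUp.exceptional f p.ker = BlowUp.exceptional f P := congrArg _ hker
    rw [hK'] at h
    exact H28.BlowExact.isZero_Rpush_of_rz f q (H28.RKoszul.rz_of_iso f eK (q + 1) h)
  set M := CohB1.tensorMod ((Scheme.Modules.pullback f).obj N) (ClSub.idealMod K)
  have hRM : ∀ n, n ≠ 0 → IsZero ((Coh.Rpush f n).obj M) := fun n hn => by
    obtain ⟨e⟩ := S0927.result f (ClSub.idealMod K) N hN n
    exact ((DCoh.tensorBi.obj N).map_isZero (hR n hn)).of_iso e.symm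
  obtain ⟨e0⟩ := S0927.result f (ClSub.idealMod K) N hN 0
  obtain ⟨ep⟩ := nonempty_push_idealMod f happ K
  let e : CohB1.tensorMod N (ClSub.idealMod (P ^ r)) ≅ (Coh.Rpush f 0).obj M :=
    (DCoh.tensorBi.obj N).mapIso ((eqToIso (congrArg ClSub.idealMod (map_exceptional_pow hx hd hbl r).symm)) ≪≫
      ep.symm ≪≫ ((Scheme.Modules.pushforward f).rightDerivedZeroIsoSelf.app (ClSub.idealMod K)).symm) ≪≫ e0
  rw [HilbPoly.finrank_HH_iso k e i]
  have hρ : f.appTop.hom.comp (Coh.toGlobal (X ↘ Spec (CommRingCat.of k))) =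
      Coh.toGlobal (Y ↘ Spec (CommRingCat.of k)) := by rw [← hf]; rfl
  have el := LerayOneDegree.nonempty_HH (Coh.toGlobal (X ↘ Spec (CommRingCat.of k))) f (M := M) 0 i hRM
  rw [hρ, Nat.zero_add] at el
  exact el.some.finrank_eq

end Groth.Agent.GrLib8.PointPow
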