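import Groth.Agent.Colength.Weak

/-!
# The order valuation of a regular surface point on its blowing up
-/

set_option autoImplicit false
set_option linter.style.haveILetI false
set_option backward.isDefEq.respectTransparency false
set_option backward.isDefEq.respectTransparency.types false
set_option maxHeartbeats 1600000

universe u

open CategoryTheory CategoryTheory.Limits AlgebraicGeometry TopologicalSpace Opposite IsLocalRing
open Groth.Agent.BlowUpLib Groth.Agent.RegBlow6 Groth.Agent.Colength

noncomputable section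

namespace Groth.Agent.GrLib8.PointPow

open Groth.Agent

variable {A : Type u} [CommRing A] {X : Scheme.{u}} (b : X ⟶ Spec (CommRingCat.of A))

/-- An ideal whose inverse image lies in the `j`th power of the exceptional ideal lies in `m ^ j`. -/
theorem le_pow_of_comap_le [IsRegularLocalRing A] (hA : ringKrullDim A = 2)
    (hb : BlowUp.IsBlowUp b (centre (maximalIdeal A))) (I : Ideal A) (j : ℕ)
    (hI' : (centre I).comap b ≤ (centre (maximalIdeal A)).comap b ^ j) : I ≤ maximalIdeal A ^ j := by
  classical
  haveI : IsDomain A := RegLoc6.isDomain_of_isRegularLocalRing A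
  haveI : IsDomain (CommRingCat.of A) := ‹IsDomain A›
  obtain ⟨a, hI, hP⟩ := exists_params A hA
  change cI a = maximalIdeal A at hI
  rw [← hI] at hb hI'
  obtain ⟨e, he⟩ := exists_iso (isBlowUp_local (cI a)) hb
  haveI : IsSeparated b := by
    haveI := isProper_toBase (cI a) (Submodule.fg_span (Set.finite_range a))
    rw [show b = e.inv ≫ toBase (cI a) by rw [← he, e.inv_hom_id_assoc]]
    infer_instance
  have hne : Nonempty X := by
    have ha0 : a 0 ≠ 0 := hP.primex.ne_zero
    haveI : Nontrivial (Localization.Away (a 0)) :=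
      (IsLocalization.injective _ (powers_le_nonZeroDivisors_of_noZeroDivisors ha0)).nontrivial
    obtain ⟨P⟩ : Nonempty (PrimeSpectrum (BlowUp.affineAlgebra A (cI a) (a 0))) := inferInstance
    exact ⟨e.hom (chart (cI a) ⟨a 0, mem_cI a 0⟩ P)⟩
  rcases Lib.BlowUpInt.isEmpty_or_birational hb with hE | ⟨hXint, hgen, hstalk⟩
  · exact absurd hne (not_nonempty_iff.2 hE)
  haveI := hXint
  haveI := hstalk
  letI : Algebra A X.functionField :=
    ((X.presheaf.germ ⊤ (genericPoint X) trivial).hom.comp (strHom b ⊤)).toAlgebra
  haveI : FaithfulSMul A X.functionField := by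
    refine (faithfulSMul_iff_algebraMap_injective _ _).2 fun r s hrs => ?_
    have key : ∀ r, algebraMap A X.functionField r = b.stalkMap (genericPoint X)
        ((Spec (CommRingCat.of A)).presheaf.germ ⊤ (b (genericPoint X)) trivial
          ((Scheme.ΓSpecIso (CommRingCat.of A)).inv r)) := by
      intro r
      rw [Scheme.Hom.germ_stalkMap_apply]
      show X.presheaf.germ ⊤ _ _ (((Scheme.ΓSpecIso (CommRingCat.of A)).inv ≫ b.appLE ⊤ ⊤ le_top).hom r) = _
      rw [Scheme.Hom.appLE, CommRingCat.hom_comp, RingHom.comp_apply, CommRingCat.hom_comp, RingHom.comp_apply]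
      exact TopCat.Presheaf.germ_res_apply X.presheaf (homOfLE (le_top : (⊤ : X.Opens) ≤ b ⁻¹ᵁ ⊤)) _ trivial _
    rw [key, key] at hrs
    have h1 := (asIso (b.stalkMap (genericPoint X))).commRingCatIsoToRingEquiv.injective hrs
    have h2 := germ_injective_of_isIntegral (Spec (CommRingCat.of A)) (b (genericPoint X))
      (U := ⊤) trivial h1
    exact (Scheme.ΓSpecIso (CommRingCat.of A)).commRingCatIsoToRingEquiv.symm.injective h2
  have hane : ∀ k, algebraMap A X.functionField (a k) ≠ 0 := fun k => by
    have : k = 0 ∨ k = 1 := by omega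
    rcases this with rfl | rfl
    · exact ne_zero' hP
    · exact ne_zero' hP.symm
  obtain ⟨U, hg, hcov, hE, hgalg, hinj, hmemc, hsurjc, hboth⟩ :=
    exists_charts b a hb (fun _ => rfl) hane
  intro r hr
  have h1 : strHom b (U 0).1 r ∈ ((centre I).comap b).ideal (U 0) := by
    rw [ideal_comap_centre]; exact Ideal.mem_map_of_mem _ hr
  replace h1 := hI' (U 0) h1
  rw [Scheme.IdealSheafData.ideal_pow, Pi.pow_apply, hE 0, Ideal.span_singleton_pow,
    Ideal.mem_span_singleton'] at h1
  obtain ⟨z, hz⟩ := h1
  have h2 := congrArg (X.presheaf.germ (U 0).1 _ (hg 0)) hz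
  rw [map_mul, map_pow, hgalg, hgalg] at h2
  exact mem_pow_of_eq hP (hmemc 0 1 (by decide) z) (by rw [← h2, mul_comm])

end Groth.Agent.GrLib8.PointPow
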