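import Groth.Agent.GrLib8.PointPow.Ord
import Groth.Agent.PointBlow.Main
import Groth.Agent.OmegaLib.IdealMod
import Groth.Agent.PicLift.Thick
import Groth.Agent.QCoh.TensorUnit
import Groth.Agent.AModX.Res
import Groth.Agent.Synt29.SerreSocle
import Groth.Prelude.Def_W4c2seshadriposJets

/-!
# The direct image of the powers of the exceptional ideal of a point blow-up
-/

set_option autoImplicit false
set_option linter.style.haveILetI false
set_option linter.unusedSectionVars false
set_option backward.isDefEq.respectTransparency false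
set_option backward.isDefEq.respectTransparency.types false
set_option maxHeartbeats 1000000

universe u

open CategoryTheory CategoryTheory.Limits AlgebraicGeometry TopologicalSpace Opposite
open Groth.Agent.H23.StalkIdeal

noncomputable section

namespace Groth.Agent.GrLib8.PointPow

open Groth.Agent

variable {X Y Z : Scheme.{u}}

/-- Functions killed on the scheme-theoretic image are those killed by the morphism. -/
theorem ker_app_iff (g : Z ⟶ X) [QuasiCompact g] {W : X.Opens} (a : Γ(X, W)) :
    g.ker.subschemeι.app W a = 0 ↔ g.app W a = 0 := by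
  have hA : ∀ A : X.affineOpens, ∀ a : Γ(X, A.1), g.ker.subschemeι.app A.1 a = 0 ↔ g.app A.1 a = 0 := fun A a => by
    rw [← RingHom.mem_ker, ← RingHom.mem_ker, g.ker.ker_subschemeι_app, Scheme.Hom.ker_apply]
  have nat : ∀ {T : Scheme.{u}} (t : T ⟶ X) {A : X.Opens} (h : A ≤ W),
      t.app A (X.presheaf.map (homOfLE h).op a) = T.presheaf.map (homOfLE (t.preimage_mono h)).op (t.app W a) :=
    fun t _ h => ConcreteCategory.congr_hom (t.naturality (homOfLE h).op) a
  have key : ∀ {T T' : Scheme.{u}} (t : T ⟶ X) (t' : T' ⟶ X),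
      (∀ A : X.affineOpens, ∀ a : Γ(X, A.1), t.app A.1 a = 0 → t'.app A.1 a = 0) → t.app W a = 0 → t'.app W a = 0 := by
    intro T T' t t' hloc h0
    refine AModX.eq_of_locally (M := Coh.structureModule T') _ _ fun z hz => ?_
    obtain ⟨_, ⟨A, hA', rfl⟩, hzA, hAW⟩ :=
      X.isBasis_affineOpens.exists_subset_of_mem_open (show t' z ∈ (W : X.Opens) from hz) W.2
    refine ⟨t' ⁻¹ᵁ A, t'.preimage_mono hAW, hzA, ?_⟩
    show T'.presheaf.map (homOfLE (t'.preimage_mono hAW)).op (t'.app W a) =
      T'.presheaf.map (homOfLE (t'.preimage_mono hAW)).op 0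
    rw [← nat t' hAW, map_zero]
    exact hloc ⟨A, hA'⟩ _ (by rw [nat t hAW, h0, map_zero])
  exact ⟨key _ g fun A a h => (hA A a).1 h, key g _ fun A a h => (hA A a).2 h⟩

/-- `b_*` of an ideal is the ideal of the image, when `O ⟶ b_*O` is an isomorphism. -/
theorem nonempty_push_idealMod (b : Y ⟶ X) (hb : ∀ U : X.Opens, IsIso (b.app U)) (K : Y.IdealSheafData)
    [QuasiCompact b] :
    Nonempty ((Scheme.Modules.pushforward b).obj (ClSub.idealMod K) ≅ ClSub.idealMod (K.map b)) := by
  let P := Scheme.Modules.pushforward b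
  haveI : P.IsRightAdjoint := ⟨_, ⟨Scheme.Modules.pullbackPushforwardAdjunction b⟩⟩
  haveI : IsIso (ClSub.unitToPush b) := Scheme.Modules.Hom.isIso_iff_isIso_app.mpr fun U => by
    haveI := hb U
    exact (ConcreteCategory.isIso_iff_bijective _).2 (ConcreteCategory.bijective_of_isIso (b.app U) :)
  let γ := ClSub.unitToPush b ≫ P.map (ClSub.toSubscheme K)
  let g := K.subschemeι ≫ b
  have hγ : ∀ (W : X.Opens) (s : Γ(X, W)), γ.app W s = g.app W s := fun W s => by
    show K.subschemeι.app (b ⁻¹ᵁ W) (b.app W s) = (K.subschemeι ≫ b).app W s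
    rw [Scheme.Hom.comp_app, CommRingCat.comp_apply]; rfl
  have h1 : ClSub.idealModι g.ker ≫ γ = 0 := QCoh.hom_ext_app fun W s => by
    show γ.app W (OmegaSh.idealSect g.ker W s) = 0
    rw [hγ]
    exact (ker_app_iff g _).1 (OmegaLib.subschemeι_app_idealSect g.ker W s)
  have h2 : kernel.ι γ ≫ ClSub.toSubscheme g.ker = 0 := QCoh.hom_ext_app fun W s => by
    refine (ker_app_iff g _).2 ?_
    rw [← hγ]
    exact congrArg (fun φ : kernel γ ⟶ _ => φ.app W s) (kernel.condition γ)
  let a : ClSub.idealMod g.ker ⟶ kernel γ := kernel.lift _ _ h1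
  let c : kernel γ ⟶ ClSub.idealMod g.ker := kernel.lift _ _ h2
  have ha : a ≫ kernel.ι γ = ClSub.idealModι g.ker := kernel.lift_ι _ _ _
  have hc : c ≫ ClSub.idealModι g.ker = kernel.ι γ := kernel.lift_ι _ _ _
  haveI : Mono (ClSub.idealModι g.ker) := inferInstanceAs (Mono (kernel.ι _))
  exact ⟨PreservesKernel.iso P _ ≪≫ (kernelIsIsoComp (ClSub.unitToPush b) (P.map (ClSub.toSubscheme K))).symm ≪≫
    (⟨c, a, by rw [← cancel_mono (kernel.ι γ), Category.assoc, ha, hc, Category.id_comp],
      by rw [← cancel_mono (ClSub.idealModι g.ker), Category.assoc, hc, ha, Category.id_comp]⟩ :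
        kernel γ ≅ ClSub.idealMod g.ker)⟩

/-- The image of a power of the exceptional ideal of a point blow-up is the power of the point. -/
theorem map_exceptional_pow [IsLocallyNoetherian X] {b : Y ⟶ X} {x : X} (hx : IsClosed ({x} : Set X))
    [IsRegularLocalRing (X.presheaf.stalk x)] (hdim : ringKrullDim (X.presheaf.stalk x) = 2)
    (hb : BlowUp.IsBlowUp b (W4c2seshadripos.pointIdeal x hx)) (r : ℕ) :
    (BlowUp.exceptional b (W4c2seshadripos.pointIdeal x hx) ^ r).map b = W4c2seshadripos.pointIdeal x hx ^ r := by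
  set I := (BlowUp.exceptional b (W4c2seshadripos.pointIdeal x hx) ^ r).map b
  refine le_antisymm ?_ (Scheme.IdealSheafData.le_map_iff_comap_le.2 (PointBlow.comap_pow _ _ _).le)
  have hI : I.comap b ≤ (W4c2seshadripos.pointIdeal x hx).comap b ^ r :=
    Scheme.IdealSheafData.le_map_iff_comap_le.1 le_rfl
  refine PointBlow.le_of_sI fun y => ?_
  rw [PointBlow.sI_pow]
  by_cases hy : y = x
  · subst hy
    have h := le_pow_of_comap_le (A := X.presheaf.stalk y) (PointBlow.locB b y) hdim
      (PointBlow.blowUp_local hx hb) (sI I y) r ((PointBlow.le_exc_pow_iff hx hb I r).1 hI)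
    have hC : IsClosed ((({y} : Finset X)) : Set X) := by simpa using hx
    have hm := (congrArg (fun C => sI (Scheme.IdealSheafData.vanishingIdeal C) y)
      (TopologicalSpace.Closeds.ext (show ({y} : Set X) = _ from (Finset.coe_singleton y).symm) :
        (⟨{y}, hx⟩ : Closeds X) = ⟨_, hC⟩)).trans
      (Synt29.SerreSocle.sI_vanishing ({y} : Finset X) hC (by simpa using hx) (Finset.mem_singleton_self y))
    exact h.trans (Ideal.pow_right_mono hm.ge r)
  · rw [PointBlow.sI_eq_top (I := W4c2seshadripos.pointIdeal x hx) (fun h => hy (by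
      rwa [W4c2seshadripos.pointIdeal, Scheme.IdealSheafData.coe_support_vanishingIdeal] at h)),
      ← Ideal.one_eq_top, one_pow, Ideal.one_eq_top]
    exact le_top

end Groth.Agent.GrLib8.PointPow
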